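import Cfsg.Agent.Lib.PLocal.Natural.Structure
import Cfsg.Agent.Lib.PLocal.Natural.Torus
import Cfsg.Agent.Lib.CharP.PushOne.Near

/-!
Odd primes: the offenders of minimal order of one Sylow subgroup, a central involution of the blocks,
and the projection of one block.
-/

set_option autoImplicit false
set_option linter.unusedSectionVars false
set_option linter.style.longLine false

namespace Cfsg.Agent.GenA.TF

open Cfsg.Lib.Offender Cfsg.Agent.FFNatural Cfsg.Agent.Classical.GL2 Cfsg.Agent.CharP.PushOne Matrix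
open scoped MatrixGroups

section SL

variable {K : Type} [Field K] [Fintype K] {p : ℕ} [hp : Fact p.Prime]

/-- The upper triangular matrices, as the preimage of a normalizer. -/
def borel (K : Type) [Field K] : Subgroup SL(2, K) :=
  (Subgroup.normalizer (upperP K : Set PSL(2, K))).comap (QuotientGroup.mk' (Subgroup.center SL(2, K)))

theorem borel_ne_top : borel K ≠ ⊤ := by
  intro h
  have h1 := upper_of_normalizer (F := K) (A := wSL) (h.ge (Subgroup.mem_top (wSL : SL(2, K))))
  simp [coe_wSL] at h1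

/-- A subgroup containing the upper unitriangular group is everything or triangular. -/
theorem top_or_borel {H : Subgroup SL(2, K)} (hu : ∀ x, uniSL x ∈ H) : H = ⊤ ∨ H ≤ borel K := by
  refine or_iff_not_imp_right.2 fun hH => ?_
  obtain ⟨A, hA, hAn⟩ := Set.not_subset.1 hH
  obtain ⟨c, hc⟩ : ∃ c, (A : Matrix (Fin 2) (Fin 2) K) 1 0 = c := ⟨_, rfl⟩
  have hc0 : c ≠ 0 := fun h0 => hAn (Subgroup.mem_normalizer_fintype fun z hz => by
    obtain ⟨x, rfl⟩ := mem_upperP.1 hz
    show pr A * pr (uniSL x) * (pr A)⁻¹ ∈ upperP K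
    rw [← map_inv, ← map_mul, ← map_mul, conj_uni_upper A (hc.trans h0)]
    exact mem_upperP.2 ⟨_, rfl⟩)
  refine eq_top_of_uni_low hu fun y => ?_
  rw [show lowSL y = lowSL (-(c * c * (-(y / (c * c))))) by congr 1; field_simp,
    ← conj_uni_lower A hc rfl hc0]
  exact mul_mem (mul_mem (hu _) (mul_mem (mul_mem hA (hu _)) (inv_mem hA))) (hu _)

/-- A `p`-subgroup is no larger than the field. -/
theorem card_sl_le_field {T : Subgroup SL(2, K)} (hT : IsPGroup p T) {n : ℕ} (hn : 1 ≤ n)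
    (hF : Fintype.card K = p ^ n) : Nat.card T ≤ Nat.card K := by
  obtain ⟨j, hj⟩ := IsPGroup.iff_card.1 hT
  have h2 : p ^ j ∣ Nat.card SL(2, K) := hj ▸ Subgroup.card_subgroup_dvd_card T
  have hsq : (p ^ n) ^ 2 - 1 = (p ^ n - 1) * (p ^ n + 1) := by
    have h := Nat.sq_sub_sq (p ^ n) 1
    rw [one_pow] at h
    rw [h, mul_comm]
  rw [natCard_SL_two, hF, ← hsq] at h2
  rw [hj, Nat.card_eq_fintype_card, hF]
  refine Nat.le_of_dvd (pow_pos hp.out.pos n) (Nat.Coprime.dvd_of_dvd_mul_right ?_ h2)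
  refine Nat.Coprime.pow_left _ (hp.out.coprime_iff_not_dvd.mpr fun h => ?_)
  have h3 := Nat.dvd_sub (dvd_pow (dvd_pow_self p (by omega : n ≠ 0)) two_ne_zero) h
  rw [Nat.sub_sub_self (Nat.one_le_pow _ _ (pow_pos hp.out.pos n))] at h3
  exact hp.out.not_dvd_one h3

/-- The scalar `-1`. -/
def negOne (K : Type) [Field K] : SL(2, K) := ⟨-1, by simp [det_neg]⟩

theorem negOne_mul_self : negOne K * negOne K = 1 := by
  refine sl_ext ?_
  rw [Matrix.SpecialLinearGroup.coe_mul]
  simp [negOne]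

theorem negOne_comm (A : SL(2, K)) : negOne K * A = A * negOne K := by
  refine sl_ext ?_
  rw [Matrix.SpecialLinearGroup.coe_mul, Matrix.SpecialLinearGroup.coe_mul]
  simp [negOne]

theorem negOne_mulVec (w : Fin 2 → K) : (negOne K : Matrix (Fin 2) (Fin 2) K).mulVec w = -w := by
  simp [negOne, Matrix.neg_mulVec]

end SL

variable {p : ℕ} {P V : Type*} [Group P] [AddCommGroup V] [Module (ZMod p) V]
variable {f : Representation (ZMod p) P V} {q : ℕ}

/-- In odd characteristic a vector with `x + x = 0` and `p • x = 0` is zero. -/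
theorem eq_zero_of_double {M : Type*} [AddCommGroup M] {x : M} (hp : p.Prime) (hp2 : p ≠ 2)
    (h2 : x + x = 0) (hx : p • x = 0) : x = 0 := by
  obtain ⟨m, hm⟩ := hp.odd_of_ne_two hp2
  rw [hm, add_smul, one_smul, mul_comm, mul_smul, two_nsmul, h2, smul_zero, zero_add] at hx
  exact hx

theorem p_smul (v : V) : p • v = 0 := by
  rw [← Nat.cast_smul_eq_nsmul (ZMod p), ZMod.natCast_self, zero_smul]

section Frame

variable {T : Sylow p P} {M : Subgroup P} (F : Frame f T M q) [Fact p.Prime] [Finite P] [Finite V]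
include F

theorem genJoin_comm {S : Subgroup P} (hS : IsSyl (T : Subgroup P) S) :
    ∀ x ∈ genJoin f q S, ∀ y ∈ genJoin f q S, x * y = y * x := by
  have h0 : ∀ A : {A : Subgroup P // Gen f q A ∧ A ≤ S},
      genJoin f q S ≤ Subgroup.centralizer ((A : Subgroup P) : Set P) := fun A =>
    iSup_le fun B b hb z hz => F.gens_comm hS A.2.1 A.2.2 B.2.1 B.2.2 z hz b hb
  have h1 : genJoin f q S ≤ Subgroup.centralizer (genJoin f q S : Set P) :=
    iSup_le fun A a ha z hz => ((h0 A hz) a ha).symm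
  exact fun x hx y hy => h1 hy x hx

/-- The offenders of one Sylow subgroup move only into their common fixed space. -/
theorem genJoin_move {S : Subgroup P} (hS : IsSyl (T : Subgroup P) S) :
    ∀ a ∈ genJoin f q S, ∀ v, f a v - v ∈ fixed f (genJoin f q S) := by
  refine move_iSup _ _ fun i g hg => ⟨fun z hz => ?_, fun v => fix_iSup _ fun k => ?_⟩
  · rw [hz g (le_genJoin i.2.1 i.2.2 hg)]; exact hz
  · obtain ⟨hn, -⟩ := F.block_spec hS k.2.1 k.2.2
    by_cases e : (i : Subgroup P) = k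
    · exact hn.move g (e ▸ hg) v
    · exact hn.fixed_le ((F.orth_gen hS k.2.1 k.2.2 i.2.1 i.2.2 e hg (one_mem _)).2 v).1

/-- An element of a Sylow subgroup fixing the fixed space of its offenders is a product of those. -/
theorem mem_genJoin_of_fix {S : Subgroup P} (hS : IsSyl (T : Subgroup P) S) {b : P} (hb : b ∈ S)
    (hfix : ∀ v ∈ fixed f (genJoin f q S), f b v = v) : b ∈ genJoin f q S := by
  classical
  let ι := {A : Subgroup P // Gen f q A ∧ A ≤ S}
  have : Fintype ι := Fintype.ofFinite ι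
  let L : ι → Subgroup P := fun i => blockOf f q S (i : Subgroup P)
  have hnat : ∀ i : ι, NatSL2 f q (i : Subgroup P) (L i) := fun i => (F.block_spec hS i.2.1 i.2.2).1
  have horth : ∀ i j : ι, i ≠ j → ∀ a ∈ (j : Subgroup P), ∀ v, f a v - v ∈ fixed f (L i) :=
    fun i j hij a ha v => ((F.orth_gen hS i.2.1 i.2.2 j.2.1 j.2.2 (fun e => hij (Subtype.ext e.symm)) ha
      (L i).one_mem).2 v).1
  -- the offenders are normalized
  have hcg : ∀ i : ι, cg b (i : Subgroup P) = i := by
    intro i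
    by_contra hne
    let j : ι := ⟨_, gens_conj hb i.2⟩
    have hij : i ≠ j := fun e => hne (congrArg Subtype.val e).symm
    obtain ⟨a, ha, ha1⟩ := (i : Subgroup P).bot_or_exists_ne_one.resolve_left i.2.1.off.ne_bot
    obtain ⟨v, hv⟩ : ∃ v, v ∉ fixed f (i : Subgroup P) := by
      by_contra hall
      push Not at hall
      exact ha1 (F.inj a (LinearMap.ext fun v => hall v a ha))
    refine hv ((hnat i).free ha ha1 ?_)
    have h1 := hfix _ (genJoin_move F hS a (le_genJoin i.2.1 i.2.2 ha) v)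
    have h2 := horth i j hij (b * a * b⁻¹) ⟨a, ha, rfl⟩ (f b v)
    rwa [show f (b * a * b⁻¹) (f b v) - f b v = f a v - v by
      rw [mul_app, mul_app, inv_app, ← map_sub, h1]] at h2
  -- the action on each fixed space
  have hact : ∀ i : ι, ∀ x ∈ fixed f (i : Subgroup P), f b x - x ∈ fixed f (L i) := by
    intro i x hx
    obtain ⟨n, hn, hqn⟩ := F.exists_pow i.2.1
    obtain ⟨K, iK, iKt, hK, ρ, ψ, hs, hk, hψ, -, -⟩ := (hnat i).sl2
    obtain ⟨u, hu, hxu⟩ := SL2Model.cover ⟨n, hn, K, iK, iKt, hK.trans hqn, ρ, ψ, hs, hk, hψ⟩ x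
    have hu0 : u ∈ fixed f (genJoin f q S) := fix_iSup _ fun k => by
      by_cases e : (k : Subgroup P) = i
      · rw [e]
        simpa using sub_mem hx ((hnat i).fixed_le hxu)
      · refine (Submodule.span_le.2 ?_ : commSpace f (L i) ≤ fixed f (k : Subgroup P)) hu
        rintro _ ⟨l, hl, w, rfl⟩ a ha
        exact ((F.orth_gen hS i.2.1 i.2.2 k.2.1 k.2.2 e ha hl).2 w).2
    have hbL : cg b (L i) = L i := by
      show cg b (blockOf f q S (i : Subgroup P)) = _
      rw [blockOf_conj hb, hcg]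
    have h1 : f b (x - u) ∈ fixed f (L i) := by
      rw [← hbL, fixed_cg]; exact ⟨_, hxu, rfl⟩
    have e : f b x - x = f b (x - u) - (x - u) := by rw [map_sub, hfix u hu0]; abel
    rw [e]
    exact sub_mem h1 hxu
  choose a ha hat using fun i : ι =>
    (F.stab_trivial hS i.2.1 i.2.2 hb (hcg i) (Or.inl (hact i))).2.2
  have key : ∀ s : Finset ι, ∃ d ∈ genJoin f q S, (∀ i ∉ s, ∀ v, f d v - v ∈ fixed f (L i)) ∧
      ∀ i ∈ s, ∀ v, f (d⁻¹ * b) v - v ∈ fixed f (L i) := by
    intro s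
    induction s using Finset.induction_on with
    | empty => exact ⟨1, one_mem _, fun i _ v => by simp, fun i hi => by simp at hi⟩
    | insert i s hi ih =>
      obtain ⟨d, hd, hdo, hdk⟩ := ih
      have haD : a i ∈ genJoin f q S := le_genJoin i.2.1 i.2.2 (ha i)
      refine ⟨a i * d, mul_mem haD hd, fun k hk v => ?_, fun k hk v => ?_⟩
      · rw [Finset.mem_insert, not_or] at hk
        have e : f (a i * d) v - v = (f (a i) (f d v) - f d v) + (f d v - v) := by rw [mul_app]; abel
        rw [e]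
        exact add_mem (horth k i hk.1 _ (ha i) _) (hdo k hk.2 v)
      rcases Finset.mem_insert.1 hk with rfl | hk'
      · have h1 := neg_mem (hdo k hi (f d⁻¹ (f ((a k)⁻¹ * b) v)))
        rw [app_inv, neg_sub] at h1
        have e : f ((a k * d)⁻¹ * b) v - v =
            (f d⁻¹ (f ((a k)⁻¹ * b) v) - f ((a k)⁻¹ * b) v) + (f ((a k)⁻¹ * b) v - v) := by
          rw [_root_.mul_inv_rev, mul_assoc, mul_app]; abel
        rw [e]
        exact add_mem h1 (hat k v)
      · have hik : k ≠ i := fun e => hi (e ▸ hk')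
        have e : f ((a i * d)⁻¹ * b) v - v =
            (f (a i)⁻¹ (f (d⁻¹ * b) v) - f (d⁻¹ * b) v) + (f (d⁻¹ * b) v - v) := by
          rw [genJoin_comm F hS _ haD _ hd, _root_.mul_inv_rev, mul_assoc, mul_app]; abel
        rw [e]
        exact add_mem (horth k i hik _ (inv_mem (ha i)) _) (hdk k hk' v)
  obtain ⟨d, hd, -, hdk⟩ := key Finset.univ
  have h1 : d⁻¹ * b = 1 := F.eq_one_of_move_syl hS fun v =>
    fix_iSup _ fun i => hdk i (Finset.mem_univ _) v
  rw [← inv_mul_eq_one.1 h1]; exact hd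

/-- The product of the scalars `-1` of the blocks. -/
theorem exists_minus (hp : p ≠ 2) {S : Subgroup P} (hS : IsSyl (T : Subgroup P) S) :
    ∃ τ ∈ ⨆ A : {A : Subgroup P // Gen f q A ∧ A ≤ S}, blockOf f q S (A : Subgroup P),
      τ * τ = 1 ∧
      (∀ n ∈ ⨆ A : {A : Subgroup P // Gen f q A ∧ A ≤ S}, blockOf f q S (A : Subgroup P), τ * n = n * τ) ∧
      ∀ v, f τ v = v →
        v ∈ fixed f (⨆ A : {A : Subgroup P // Gen f q A ∧ A ≤ S}, blockOf f q S (A : Subgroup P)) := by
  classical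
  obtain ⟨r, E, -, D, hsup⟩ := F.decomp hS
  rw [← hsup]
  have hsl : ∀ i, SL2Model f (E i) := fun i => (D.model i).resolve_right fun h => hp h.1
  choose n hn K iK iKt hK ρ ψ hs hk hψ using hsl
  have key : ∀ s : Finset (Fin r), ∃ t ∈ ⨆ i, E i, t * t = 1 ∧
      (∀ i, ∀ x ∈ E i, t * x = x * t) ∧ (∀ i ∈ s, ∀ v, ψ i (f t v) = -ψ i v) ∧
      ∀ i ∉ s, ∀ v, f t v - v ∈ fixed f (E i) := by
    intro s
    induction s using Finset.induction_on with
    | empty => exact ⟨1, one_mem _, one_mul 1, fun i x _ => by simp, fun i hi => by simp at hi,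
        fun i _ v => by simp⟩
    | insert i s hi ih =>
      obtain ⟨t, ht, ht2, htc, hts, hto⟩ := ih
      letI := iK i
      set z : ↥(E i) := (ρ i).symm (negOne (K i)) with hz
      have hz2 : (z : P) * z = 1 := by
        have : z * z = 1 := by rw [hz, ← map_mul, negOne_mul_self, map_one]
        exact congrArg Subtype.val this
      have hzc : ∀ j, ∀ x ∈ E j, (z : P) * x = x * z := by
        intro j x hx
        by_cases e : i = j
        · subst e
          have : z * ⟨x, hx⟩ = ⟨x, hx⟩ * z := (ρ i).injective (by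
            rw [map_mul, map_mul, hz, MulEquiv.apply_symm_apply, negOne_comm])
          exact congrArg Subtype.val this
        · exact D.comm i j e _ z.2 _ hx
      have hzt : (z : P) * t = t * z := (htc i z z.2).symm
      refine ⟨z * t, mul_mem (Subgroup.mem_iSup_of_mem i z.2) ht, ?_, fun j x hx => ?_, ?_, ?_⟩
      · calc (z : P) * t * (z * t) = z * (t * z) * t := by group
          _ = (z * z) * (t * t) := by rw [← hzt]; group
          _ = 1 := by rw [hz2, ht2, one_mul]
      · rw [mul_assoc, htc j x hx, ← mul_assoc, hzc j x hx, mul_assoc]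
      · intro k hkm v
        rw [mul_app]
        rcases Finset.mem_insert.1 hkm with rfl | hk'
        · rw [hψ k z, hz, MulEquiv.apply_symm_apply, negOne_mulVec]
          have h1 := (hk k _).2 (hto k hi v)
          rw [map_sub, sub_eq_zero] at h1
          rw [h1]
        · have hki : k ≠ i := fun e => hi (e ▸ hk')
          have h1 := (hk k _).2 (D.orth k i hki _ z.2 (f t v))
          rw [map_sub, sub_eq_zero] at h1
          rw [h1, hts k hk' v]
      · intro k hk v
        rw [Finset.mem_insert, not_or] at hk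
        have e : f ((z : P) * t) v - v = (f (z : P) (f t v) - f t v) + (f t v - v) := by rw [mul_app]; abel
        rw [e]
        exact add_mem (D.orth k i hk.1 _ z.2 _) (hto k hk.2 v)
  obtain ⟨t, ht, ht2, htc, hts, -⟩ := key Finset.univ
  refine ⟨t, ht, ht2, fun x hx => ?_, fun v hv => fix_iSup _ fun i => ?_⟩
  · exact ((iSup_le fun i y hy => Subgroup.mem_centralizer_singleton_iff.2 (htc i y hy).symm :
      (⨆ i, E i) ≤ Subgroup.centralizer {t}) hx t rfl)
  · letI := iK i
    refine (hk i v).1 (eq_zero_of_double (p := p) Fact.out hp ?_ ?_)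
    · have h1 := hts i (Finset.mem_univ i) v
      rw [hv] at h1
      exact eq_neg_iff_add_eq_zero.1 h1
    · rw [← map_nsmul, p_smul, map_zero]

theorem gen_sup_others {S A : Subgroup P} (hA : Gen f q A) (hAS : A ≤ S) :
    A ⊔ others f q S A = genJoin f q S := by
  refine le_antisymm (sup_le (le_genJoin hA hAS) (iSup_le fun B => le_genJoin B.2.1 B.2.2.1)) (iSup_le fun B => ?_)
  by_cases e : (B : Subgroup P) = A
  · exact e.le.trans le_sup_left
  · exact (le_others B.2.1 B.2.2 e).trans le_sup_right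

/-- The projection of a block times the other offenders onto `SL₂`. -/
theorem exists_proj {S A : Subgroup P} (hS : IsSyl (T : Subgroup P) S) (hA : Gen f q A) (hAS : A ≤ S) :
    ∃ (K : Type) (_ : Field K) (_ : Fintype K) (n : ℕ)
      (π : ↥(blockOf f q S A ⊔ others f q S A : Subgroup P) →* SL(2, K)),
      1 ≤ n ∧ Fintype.card K = p ^ n ∧ Function.Surjective π ∧
      (genJoin f q S).subgroupOf (blockOf f q S A ⊔ others f q S A) ≤ (borel K).comap π ∧
      (∀ H : Subgroup ↥(blockOf f q S A ⊔ others f q S A : Subgroup P),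
        (genJoin f q S).subgroupOf (blockOf f q S A ⊔ others f q S A) ≤ H → H = ⊤ ∨ H ≤ (borel K).comap π) ∧
      ∀ X : Subgroup P, IsPGroup p X → X ≤ blockOf f q S A ⊔ others f q S A → genJoin f q S ≤ X →
        X = genJoin f q S := by
  classical
  obtain ⟨hn, -, hR, -⟩ := F.block_spec hS hA hAS
  obtain ⟨n, hn1, hqn⟩ := F.exists_pow hA
  obtain ⟨D⟩ := hn.nonempty_data
  set L := blockOf f q S A with hL
  set R := others f q S A with hRdef
  set Y : Subgroup P := L ⊔ R with hY
  have hcomm : ∀ x ∈ L, ∀ y ∈ R, x * y = y * x := fun x hx y hy => ((hR y hy x hx).1).symm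
  have hsurjψ : Function.Surjective D.ψ := by
    obtain ⟨K', iK', iKt', hK', ρ', ψ', hs', hk', -, -, -⟩ := hn.sl2
    have hker : D.ψ.ker = ψ'.ker := by
      ext v; rw [AddMonoidHom.mem_ker, AddMonoidHom.mem_ker, D.ker, hk']
    have e1 := AddSubgroup.card_eq_card_quotient_mul_card_addSubgroup D.ψ.ker
    have e2 := AddSubgroup.card_eq_card_quotient_mul_card_addSubgroup ψ'.ker
    have hc1 : Nat.card (V ⧸ D.ψ.ker) = Nat.card ↥D.ψ.range :=
      Nat.card_congr (QuotientAddGroup.quotientKerEquivRange D.ψ).toEquiv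
    have hc2 : Nat.card (V ⧸ ψ'.ker) = Nat.card (Fin 2 → K') :=
      Nat.card_congr (QuotientAddGroup.quotientKerEquivOfSurjective ψ' hs').toEquiv
    have hc3 : Nat.card ↥D.ψ.range = Nat.card (Fin 2 → D.K) := by
      rw [hc1, hker] at e1
      rw [hc2] at e2
      have := Nat.eq_of_mul_eq_mul_right Nat.card_pos (e1.symm.trans e2)
      rw [this, Nat.card_eq_fintype_card, Nat.card_eq_fintype_card, Fintype.card_fun, Fintype.card_fun, hK', D.card]
    exact AddMonoidHom.range_eq_top.1 (AddSubgroup.eq_top_of_card_eq _ hc3)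
  have hRfix : ∀ r ∈ R, ∀ w, D.ψ (f r w) = D.ψ w := fun r hr w => by
    rw [← sub_eq_zero, ← map_sub, D.ker]
    exact ((hR r hr 1 (one_mem _)).2 w).1
  have huniq : ∀ M N : SL(2, D.K), (∀ v, (M : Matrix (Fin 2) (Fin 2) D.K).mulVec (D.ψ v) =
      (N : Matrix (Fin 2) (Fin 2) D.K).mulVec (D.ψ v)) → M = N := fun M N h => sl_ext (by
    refine Matrix.ext_of_mulVec_single fun j => ?_
    obtain ⟨v, hv⟩ := hsurjψ (Pi.single j 1)
    rw [← hv]; exact h v)
  have hex : ∀ g : ↥Y, ∃ m : SL(2, D.K), ∀ v, D.ψ (f (g : P) v) = (m : Matrix (Fin 2) (Fin 2) D.K).mulVec (D.ψ v) := by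
    intro g
    obtain ⟨l, hl, r, hr, e⟩ := mem_sup_of_comm hcomm g.2
    exact ⟨D.ρ ⟨l, hl⟩, fun v => by rw [← e, mul_app, D.act ⟨l, hl⟩, hRfix r hr]⟩
  choose m hm using hex
  let π : ↥Y →* SL(2, D.K) := MonoidHom.mk' m fun g h => huniq _ _ fun v => by
    rw [← hm, Subgroup.coe_mul, mul_app, hm, hm, Matrix.SpecialLinearGroup.coe_mul, Matrix.mulVec_mulVec]
  have hπL : ∀ (l : ↥L) (h : (l : P) ∈ Y), π ⟨l, h⟩ = D.ρ l := fun l h => huniq _ _ fun v => by
    show (m _ : Matrix (Fin 2) (Fin 2) D.K).mulVec _ = _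
    rw [← hm, D.act]
  have hπR : ∀ g : ↥Y, (g : P) ∈ R → π g = 1 := fun g hg => huniq _ _ fun v => by
    show (m _ : Matrix (Fin 2) (Fin 2) D.K).mulVec _ = _
    rw [← hm, hRfix _ hg, Matrix.SpecialLinearGroup.coe_one, Matrix.one_mulVec]
  have hker : ∀ g : ↥Y, π g = 1 → (g : P) ∈ R := by
    intro g hg
    obtain ⟨l, hl, r, hr, e⟩ := mem_sup_of_comm hcomm g.2
    have hg' : g = ⟨l, Subgroup.mem_sup_left hl⟩ * ⟨r, Subgroup.mem_sup_right hr⟩ := Subtype.ext e.symm
    rw [hg', map_mul, hπR ⟨r, Subgroup.mem_sup_right hr⟩ hr, mul_one, hπL ⟨l, hl⟩, map_eq_one_iff _ D.ρ.injective] at hg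
    rw [← e, show l = 1 from congrArg Subtype.val hg, one_mul]
    exact hr
  have hsurj : Function.Surjective π := fun c =>
    ⟨⟨(D.ρ.symm c : ↥L), Subgroup.mem_sup_left (D.ρ.symm c).2⟩, by rw [hπL, D.ρ.apply_symm_apply]⟩
  have huni : ∀ c, ∃ g : ↥Y, (g : P) ∈ A ∧ π g = uniSL c := fun c =>
    ⟨⟨(D.ρ.symm (uniSL c) : ↥L), Subgroup.mem_sup_left (D.ρ.symm (uniSL c)).2⟩,
      D.uni_mem hn.le hA.card c, by rw [hπL, D.ρ.apply_symm_apply]⟩
  have hAR : A ⊔ R = genJoin f q S := gen_sup_others F hA hAS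
  refine ⟨D.K, D.field, D.fin, n, π, hn1, D.card.trans hqn, hsurj, fun g hg => ?_, fun H hH => ?_,
    fun X hX hXY hDX => ?_⟩
  · rw [Subgroup.mem_subgroupOf, ← hAR] at hg
    obtain ⟨a, ha, r, hr, e⟩ := mem_sup_of_comm
      (fun x hx y hy => hcomm x (hn.le hx) y hy) hg
    rw [show g = ⟨a, Subgroup.mem_sup_left (hn.le ha)⟩ * ⟨r, Subgroup.mem_sup_right hr⟩ from Subtype.ext e.symm,
      Subgroup.mem_comap, map_mul, hπR ⟨r, Subgroup.mem_sup_right hr⟩ hr, mul_one, hπL ⟨a, hn.le ha⟩]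
    obtain ⟨c, hc⟩ := D.uni ⟨a, hn.le ha⟩ ha
    rw [hc]
    exact Subgroup.le_normalizer (mem_upperP.2 ⟨c, rfl⟩)
  · have hkerH : π.ker ≤ H := fun g hg => hH (by
      rw [Subgroup.mem_subgroupOf, ← hAR]; exact Subgroup.mem_sup_right (hker g hg))
    have e := Subgroup.comap_map_eq_self hkerH
    rcases top_or_borel (H := H.map π) (fun c => by
      obtain ⟨g, hg, e⟩ := huni c
      exact ⟨g, hH (by rw [Subgroup.mem_subgroupOf, ← hAR]; exact Subgroup.mem_sup_left hg), e⟩) with h | h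
    · left; rw [← e, h, Subgroup.comap_top]
    · right; rw [← e]; exact Subgroup.comap_mono h
  · refine le_antisymm (fun x hx => ?_) hDX
    set X' := (X.subgroupOf Y).map π with hX'
    have hX'p : IsPGroup p X' := (hX.comap_of_injective _ Y.subtype_injective).map π
    have hAY : A ≤ Y := hn.le.trans le_sup_left
    have hA' : (A.subgroupOf Y).map π ≤ X' := Subgroup.map_mono (Subgroup.comap_mono
      ((le_genJoin hA hAS).trans hDX))
    have hcard : Nat.card D.K ≤ Nat.card ↥((A.subgroupOf Y).map π) := by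
      refine Nat.card_le_card_of_injective (fun c => ⟨uniSL c, ?_⟩) fun c d h => ?_
      · obtain ⟨g, hg, e⟩ := huni c
        exact ⟨g, hg, e⟩
      · simpa [coe_uniSL] using congrArg (fun m : ↥((A.subgroupOf Y).map π) =>
          ((m : SL(2, D.K)) : Matrix (Fin 2) (Fin 2) D.K) 0 1) h
    have he := Subgroup.eq_of_le_of_card_ge hA'
      ((card_sl_le_field hX'p hn1 (D.card.trans hqn)).trans hcard)
    obtain ⟨a, ha, hae⟩ := he.ge (⟨⟨x, hXY hx⟩, hx, rfl⟩ : π ⟨x, hXY hx⟩ ∈ X')
    have h1 := hker (a⁻¹ * ⟨x, hXY hx⟩) (by rw [map_mul, map_inv, hae, inv_mul_cancel])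
    rw [← hAR, show x = (a : P) * ((a⁻¹ * ⟨x, hXY hx⟩ : ↥Y) : P) by simp]
    exact mul_mem (Subgroup.mem_sup_left ha) (Subgroup.mem_sup_right h1)

end Frame

end Cfsg.Agent.GenA.TF
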