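import Cfsg.Agent.Lib.PLocal.BlockBasic
import Cfsg.Agent.Lib.PLocal.ThompsonSubgroup
import Cfsg.Prelude.Def_BaumannBlocks

/-!
Characteristic subgroups of a `p`-group: `Ω₁(Z(S))`, `J(S)` and the Baumann subgroup.
-/

set_option autoImplicit false
set_option linter.unusedSectionVars false

namespace Cfsg.Agent.GenA.TF

open Subgroup Cfsg.Agent.PLocal

variable {G H : Type*} [Group G] [Group H]

theorem characteristic_map_equiv (e : G ≃* H) {K : Subgroup G} (hK : K.Characteristic) :
    (K.map e.toMonoidHom).Characteristic := by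
  rw [characteristic_iff_map_eq] at hK ⊢
  intro φ
  have h := hK ((e.trans φ).trans e.symm)
  conv_rhs => rw [← h]
  rw [map_map, map_map]
  congr 1
  ext x
  simp

variable (p : ℕ) (S : Subgroup G)

theorem omega_center_char : (omegaOne p (center ↥S)).Characteristic := by
  rw [characteristic_iff_map_eq]
  intro φ
  rw [Omega.map_omegaOne φ.injective]
  congr 1
  exact characteristic_iff_map_eq.1 inferInstance φ

theorem map_subtype_center : (center ↥S).map S.subtype = S ⊓ centralizer (S : Set G) := by
  ext x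
  constructor
  · rintro ⟨z, hz, rfl⟩
    exact ⟨z.2, fun y hy => congrArg Subtype.val (mem_center_iff.1 hz ⟨y, hy⟩)⟩
  · rintro ⟨hx, hc⟩
    exact ⟨⟨x, hx⟩, mem_center_iff.2 fun y => Subtype.ext (hc y y.2), rfl⟩

theorem omega_center_map : (omegaOne p (center ↥S)).map S.subtype = omegaOneCenter p S := by
  rw [Omega.map_omegaOne S.subtype_injective, map_subtype_center]
  rfl

theorem thompson_char : (thompsonSubgroup p ↥S).Characteristic := by
  rw [characteristic_iff_map_eq]
  exact fun φ => ThompsonSubgroup.map_thompsonSubgroup_equiv (p := p) φ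

theorem map_subtype_inf_centralizer (X : Subgroup ↥S) :
    (X ⊓ centralizer (X : Set ↥S)).map S.subtype =
      X.map S.subtype ⊓ centralizer ((X.map S.subtype : Subgroup G) : Set G) := by
  ext x
  constructor
  · rintro ⟨z, ⟨hz, hc⟩, rfl⟩
    refine ⟨mem_map_of_mem _ hz, ?_⟩
    rintro _ ⟨y, hy, rfl⟩
    exact congrArg Subtype.val (hc y hy)
  · rintro ⟨⟨z, hz, rfl⟩, hc⟩
    exact ⟨z, ⟨hz, fun y hy => Subtype.ext (hc _ (mem_map_of_mem _ hy))⟩, rfl⟩

theorem baumann_char : ((baumannSubgroupOf p S).subgroupOf S).Characteristic := by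
  set J := thompsonSubgroup p ↥S with hJ
  set W := omegaOne p (J ⊓ centralizer (J : Set ↥S)) with hW
  have hWmap : W.map S.subtype = omegaOne p (centerThompsonOf p S) := by
    rw [hW, Omega.map_omegaOne S.subtype_injective, map_subtype_inf_centralizer]
    rfl
  have e : (baumannSubgroupOf p S).subgroupOf S = centralizer (W : Set ↥S) := by
    ext x
    constructor
    · rintro ⟨-, hc⟩ y hy
      exact Subtype.ext (hc _ (hWmap.le (mem_map_of_mem S.subtype hy)))
    · refine fun hc => ⟨x.2, fun y hy => ?_⟩
      obtain ⟨w, hw, rfl⟩ := hWmap.ge hy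
      exact congrArg Subtype.val (hc w hw)
  rw [e, characteristic_iff_map_eq]
  intro φ
  have hWφ : W.map φ.toMonoidHom = W := by
    rw [hW, Omega.map_omegaOne φ.injective, map_inf _ _ _ φ.injective, Omega.map_centralizer_equiv]
    have h := ThompsonSubgroup.map_thompsonSubgroup_equiv (p := p) φ
    conv_rhs => rw [hJ, ← h]
    rw [coe_map]
    rfl
  rw [Omega.map_centralizer_equiv]
  congr 1
  exact congrArg SetLike.coe hWφ

end Cfsg.Agent.GenA.TF
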