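import Cfsg.Agent.GenA.TF.Block
import Cfsg.Agent.GenA.TF.Char
import Cfsg.Agent.S2765
import Cfsg.Agent.Lib.CharP.Sylow
import Cfsg.Prelude.Def_PLocal

/-!
A Baumann subgroup pushed up over one block has class at most three.
-/

set_option autoImplicit false
set_option linter.unusedSectionVars false
set_option linter.style.longLine false

namespace Cfsg.Agent.GenA.TF

open Subgroup Cfsg.Agent.CharP.PushOne
open scoped MatrixGroups

variable {G P : Type*} [Group G] [Finite G] [Group P] {p : ℕ} [Fact p.Prime]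

theorem baumann_class (S : Sylow p G) (q : G →* P) (Y : Subgroup P)
    {K : Type} [Field K] [Fintype K] {n : ℕ} (hn : 1 ≤ n) (hK : Fintype.card K = p ^ n)
    (π : ↥Y →* SL(2, K)) (hπ : Function.Surjective π)
    (hDY : (baumannSubgroupOf p (S : Subgroup G)).map q ≤ Y)
    (hDbor : ((baumannSubgroupOf p (S : Subgroup G)).map q).subgroupOf Y ≤ (borel K).comap π)
    (htop : ∀ H : Subgroup ↥Y, ((baumannSubgroupOf p (S : Subgroup G)).map q).subgroupOf Y ≤ H →
      H = ⊤ ∨ H ≤ (borel K).comap π)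
    (hmaxp : ∀ R : Subgroup P, IsPGroup p R → R ≤ Y → (baumannSubgroupOf p (S : Subgroup G)).map q ≤ R →
      R = (baumannSubgroupOf p (S : Subgroup G)).map q)
    (G0 : Subgroup G) (hBG0 : baumannSubgroupOf p (S : Subgroup G) ≤ G0) (hYG0 : Y ≤ G0.map q)
    (Q0 : Subgroup G) [Q0.Normal] (hQ0B : Q0 ≤ baumannSubgroupOf p (S : Subgroup G))
    (hcent : G0 ⊓ centralizer (Q0 : Set G) ≤ Q0)
    (hker : ∀ R : Subgroup G, IsPGroup p R → R ≤ q.ker ⊓ G0 → R ≤ baumannSubgroupOf p (S : Subgroup G))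
    (hgen : ∀ X : Subgroup G, Y ≤ X.map q → X ⊔ (S : Subgroup G) = ⊤)
    (hchar : ∀ T : Subgroup ↥(S : Subgroup G), T ≠ ⊥ → T.Characteristic →
      ¬ (T.map (S : Subgroup G).subtype).Normal) :
    ⁅⁅⁅baumannSubgroupOf p (S : Subgroup G), baumannSubgroupOf p (S : Subgroup G)⁆,
      baumannSubgroupOf p (S : Subgroup G)⁆, baumannSubgroupOf p (S : Subgroup G)⁆ = ⊥ := by
  classical
  set B := baumannSubgroupOf p (S : Subgroup G) with hB
  have hBS : B ≤ (S : Subgroup G) := inf_le_left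
  have hBp : IsPGroup p B := S.2.to_le hBS
  set X1 := Y.comap q ⊓ G0 with hX1
  have hX1map : X1.map q = Y := by
    refine le_antisymm ((map_mono inf_le_left).trans (map_comap_le q Y)) fun y hy => ?_
    obtain ⟨g, hg, rfl⟩ := hYG0 hy
    exact ⟨g, ⟨hy, hg⟩, rfl⟩
  have hBX1 : B ≤ X1 := le_inf (map_le_iff_le_comap.1 hDY) hBG0
  -- `B` is a maximal `p`-subgroup of `X1`
  have hBmax : ∀ R : Subgroup G, IsPGroup p R → R ≤ X1 → B ≤ R → R = B := by
    intro R hR hRX hBR
    refine le_antisymm (fun r hr => ?_) hBR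
    have h1 := hmaxp (R.map q) (hR.map q) ((map_mono hRX).trans hX1map.le) (map_mono hBR)
    obtain ⟨b, hb, e⟩ := h1.le ⟨r, hr, rfl⟩
    have h2 : R ⊓ (q.ker ⊓ G0) ≤ B := hker _ (hR.to_le inf_le_left) inf_le_right
    have h3 : b⁻¹ * r ∈ B := h2 ⟨R.mul_mem (R.inv_mem (hBR hb)) hr,
      show q (b⁻¹ * r) = 1 by rw [map_mul, map_inv, e, inv_mul_cancel],
      G0.mul_mem (G0.inv_mem (hBG0 hb)) (hRX hr).2⟩
    simpa using B.mul_mem hb h3
  -- a smallest subgroup over `B` covering `Y`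
  obtain ⟨X, ⟨hBX, hXX1, hXmap⟩, hXmin⟩ := (Set.toFinite {X : Subgroup G | B ≤ X ∧ X ≤ X1 ∧ X.map q = Y}).exists_minimal
    ⟨X1, hBX1, le_rfl, hX1map⟩
  let qX : ↥X →* ↥Y := (q.comp X.subtype).codRestrict Y fun x => hXmap.le ⟨x, x.2, rfl⟩
  have hqX : Function.Surjective qX := fun y => by
    obtain ⟨x, hx, e⟩ := hXmap.ge y.2
    exact ⟨⟨x, hx⟩, Subtype.ext e⟩
  let φ : ↥X →* PSL(2, K) := (QuotientGroup.mk' (center SL(2, K))).comp (π.comp qX)
  have hφ : Function.Surjective φ :=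
    (QuotientGroup.mk'_surjective _).comp (hπ.comp hqX)
  -- the Sylow subgroup
  obtain ⟨R, hR⟩ := (hBp.comap_subtype (K := X)).exists_le_sylow
  have hBR : B ≤ (R : Subgroup ↥X).map X.subtype := fun b hb => ⟨⟨b, hBX hb⟩, hR hb, rfl⟩
  have hReq : (R : Subgroup ↥X).map X.subtype = B :=
    hBmax _ (R.2.map _) ((map_subtype_le _).trans hXX1) hBR
  have hRsub : (R : Subgroup ↥X) = B.subgroupOf X := by
    rw [← hReq, subgroupOf, comap_map_eq_self_of_injective X.subtype_injective]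
  -- one maximal subgroup over it
  have hM0 : ((borel K).comap π).comap qX ≠ ⊤ := fun h => borel_ne_top (K := K) (top_le_iff.1 fun c _ => by
    obtain ⟨x, rfl⟩ := (hπ.comp hqX) c
    exact h.ge (mem_top x))
  have hover : ∀ H : Subgroup ↥X, (R : Subgroup ↥X) ≤ H → H ≠ ⊤ → H ≤ ((borel K).comap π).comap qX := by
    intro H hRH hH
    rcases htop (H.map qX) (fun y hy => by
      obtain ⟨b, hb, e⟩ := (mem_subgroupOf.1 hy)
      exact ⟨⟨b, hBX hb⟩, hRH (hRsub.ge hb), Subtype.ext e⟩) with h | h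
    · refine absurd ?_ hH
      have hmem : H.map X.subtype ∈ {X : Subgroup G | B ≤ X ∧ X ≤ X1 ∧ X.map q = Y} := by
        refine ⟨hReq.ge.trans (map_mono hRH), (map_subtype_le _).trans hXX1, ?_⟩
        refine le_antisymm ((map_mono (map_subtype_le _)).trans hXmap.le) fun y hy => ?_
        obtain ⟨x, hx, e⟩ := h.ge (mem_top (⟨y, hy⟩ : ↥Y))
        exact ⟨x, ⟨x, hx, rfl⟩, congrArg Subtype.val e⟩
      have hle := hXmin hmem (map_subtype_le H)
      refine top_le_iff.1 fun x _ => ?_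
      obtain ⟨x', hx', e⟩ := hle x.2
      exact (Subtype.ext e : x' = x) ▸ hx'
    · exact map_le_iff_le_comap.1 h
  have hE2 : ∃! M : Subgroup ↥X, IsCoatom M ∧ (R : Subgroup ↥X) ≤ M := by
    set M0 := ((borel K).comap π).comap qX with hM0def
    have hRM : (R : Subgroup ↥X) ≤ M0 := fun x hx =>
      hDbor (mem_subgroupOf.2 ⟨(x : G), hRsub.le hx, rfl⟩)
    have hco : IsCoatom M0 := ⟨hM0, fun Z hZ => by
      by_contra hne
      exact hZ.not_ge (hover Z (hRM.trans hZ.le) hne)⟩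
    exact ⟨M0, ⟨hco, hRM⟩, fun N hN =>
      ((hN.1.le_iff.1 (hover N hN.2 hN.1.1)).resolve_left hM0).symm⟩
  -- constrained
  have hE1 : centralizer (pCore p ↥X : Set ↥X) ≤ pCore p ↥X := by
    have hQX : Q0 ≤ X := hQ0B.trans hBX
    have hQp : Q0.subgroupOf X ≤ pCore p ↥X :=
      Cfsg.Agent.CharP.le_pCore (Normal.comap inferInstance _) ((hBp.to_le hQ0B).comap_subtype)
    intro x hx
    refine hQp (hcent ⟨(hXX1 x.2).2, fun y hy => ?_⟩)
    exact congrArg Subtype.val (hx ⟨y, hQX hy⟩ (hQp (mem_subgroupOf.2 hy)))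
  have hd : ∀ T : Subgroup ↥(R : Subgroup ↥X), T ≠ ⊥ → T.Characteristic →
      ¬ (T.map (R : Subgroup ↥X).subtype).Normal := by
    intro T hT hTc hTn
    set B1 := B.subgroupOf (S : Subgroup G) with hB1
    have hB1c : B1.Characteristic := baumann_char p (S : Subgroup G)
    let e : ↥(R : Subgroup ↥X) ≃* ↥B1 :=
      (MulEquiv.subgroupCongr hRsub).trans ((subgroupOfEquivOfLe hBX).trans (subgroupOfEquivOfLe hBS).symm)
    have hT2 := characteristic_map_equiv e hTc
    set T0 := (T.map e.toMonoidHom).map B1.subtype with hT0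
    have hT0c : T0.Characteristic := inferInstance
    have heq : T0.map (S : Subgroup G).subtype = (T.map (R : Subgroup ↥X).subtype).map X.subtype := by
      rw [hT0, map_map, map_map, map_map]
      congr 1
    have hne : T0 ≠ ⊥ := by
      rw [hT0, Ne, map_eq_bot_iff_of_injective _ B1.subtype_injective,
        map_eq_bot_iff_of_injective _ e.injective]
      exact hT
    refine hchar T0 hne hT0c (normalizer_eq_top_iff.1 (top_le_iff.1 ?_))
    rw [← hgen X hXmap.ge]
    refine sup_le ?_ ?_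
    · rw [heq]
      refine le_trans ?_ (le_normalizer_map X.subtype)
      rw [normalizer_eq_top_iff.2 hTn, ← MonoidHom.range_eq_map, range_subtype]
    · refine le_trans ?_ (le_normalizer_map (S : Subgroup G).subtype)
      rw [normalizer_eq_top_iff.2 (normal_of_characteristic T0), ← MonoidHom.range_eq_map, range_subtype]
  -- the class
  have h3 : (R : Subgroup ↥X).lowerCentralSeries 3 = ⊥ := by
    rcases Cfsg.Agent.S2765.result R hE1 hE2 φ.ker K n hn hK
      ⟨QuotientGroup.quotientKerEquivOfSurjective φ hφ⟩ hd with ⟨h, -⟩ | ⟨-, h, -⟩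
    · show ⁅(R : Subgroup ↥X).lowerCentralSeries 2, (R : Subgroup ↥X)⁆ = ⊥
      rw [h, commutator_bot_left]
    · exact h
  have h4 := congrArg (map X.subtype) h3
  rw [Subgroup.map_bot] at h4
  rw [← h4, show (R : Subgroup ↥X).lowerCentralSeries 3 =
    ⁅⁅⁅(R : Subgroup ↥X), (R : Subgroup ↥X)⁆, (R : Subgroup ↥X)⁆, (R : Subgroup ↥X)⁆ from rfl]
  simp only [map_commutator, hReq]

end Cfsg.Agent.GenA.TF
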